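import Cfsg.Agent.Lib.Lie.TitsSyl

/-! Elements of the Tits group: two elementary abelian subgroups with the classes of their involutions. -/

set_option autoImplicit false
set_option maxRecDepth 100000

namespace Cfsg.Agent.Chev.Tits

open Cfsg.Lie Tab
open TitsData (appN)

/-- the Tits group -/
abbrev TT : Type := ↥(commutator ↥TW)

/-- parity of the outer generator -/
def evW (w : List (Fin 5)) : Bool := Nat.beq (w.countP (· == 4) % 2) 0

/-- an element from a word (trivial for odd words) -/
noncomputable def tW (w : List (Fin 5)) : TT :=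
  if h : evW w = true then ⟨valW w, (valW_mem w).2 (nat_beq.1 h)⟩ else 1

theorem tW_val {w : List (Fin 5)} (h : evW w = true) : (tW w : ↥TW) = valW w := by
  rw [tW, dif_pos h]

/-- the word of a product of basis elements -/
def uW (u : List ℕ) : List (Fin 5) := (u.map sw).flatten

theorem valW_uW (u : List ℕ) : valW (uW u) = sel u := by
  induction u with
  | nil => simp [uW, sel, valW]
  | cons i u ih => rw [sel_cons, uW, List.map_cons, List.flatten_cons, valW_append, ← uW, ih]; rfl

/-- words with the same columns, using the basis columns on the left -/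
def sameU (u : List ℕ) (w : List (Fin 5)) (u' : List ℕ) (w' : List (Fin 5)) : Bool :=
  allBelow (fun j => Nat.beq (fS u (fW w (2 ^ j))) (fS u' (fW w' (2 ^ j)))) 52

theorem sameU_eq {u u' : List ℕ} {w w' : List (Fin 5)} (hu : ∀ i ∈ u, i < 12) (hu' : ∀ i ∈ u', i < 12)
    (h : sameU u w u' w' = true) : valW (uW u ++ w) = valW (uW u' ++ w') := by
  rw [valW_append, valW_append, valW_uW, valW_uW]
  exact Subtype.ext (act_ext (act_mul (act_sel u hu) (act_valW w)) (act_mul (act_sel u' hu') (act_valW w'))
    fun j hj => nat_beq.1 (allBelow_eq_true.1 h j hj))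

/-- the five basis elements of the subgroup of order 32 -/
def bas32 : List (List ℕ) := [[5, 4], [3], [2], [1], [0]]

/-- involutions, flag for the central class, conjugating word -/
def certData : List (List ℕ × Bool × List (Fin 5)) :=
  [([0], true, []), ([1], true, [2]), ([1, 0], true, [0, 2]), ([2], false, []), ([2, 0], false, [0]), ([2, 1], false, [2, 0]), ([2, 1, 0], false, [3, 1, 0, 1, 3, 2, 0]), ([3], false, [1, 3, 1, 3]), ([3, 0], false, [1, 3, 1, 3, 0]), ([3, 1], false, [3, 1, 3]), ([3, 1, 0], false, [3, 1, 3, 0]), ([3, 2], false, [1, 3, 2, 0]), ([3, 2, 0], false, [0, 1, 3, 2, 0]), ([3, 2, 1], false, [3, 2, 0]), ([3, 2, 1, 0], false, [1, 0, 1, 3, 2, 0]), ([5, 4], false, [2, 3, 1, 3]), ([5, 4, 0], false, [2, 1, 3, 1, 3]), ([5, 4, 1], false, [2, 3, 1, 3, 0]), ([5, 4, 1, 0], false, [2, 1, 3, 1, 3, 0]), ([5, 4, 2], false, [2, 3, 2, 0]), ([5, 4, 2, 0], false, [2, 1, 3, 2, 0]), ([5, 4, 2, 1], false, [2, 1, 0, 1, 3, 2, 0]), ([5, 4, 2, 1, 0], false, [2, 0, 1, 3, 2, 0]), ([5, 4, 3], false, [0, 2, 3,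 1, 3]), ([5, 4, 3, 0], false, [0, 2, 1, 3, 1, 3]), ([5, 4, 3, 1], false, [1, 0, 2, 3, 1, 3]), ([5, 4, 3, 1, 0], false, [0, 2, 3, 1, 3, 0]), ([5, 4, 3, 2], false, [0, 2, 1, 3, 2, 0]), ([5, 4, 3, 2, 0], false, [0, 2, 3, 2, 0]), ([5, 4, 3, 2, 1], false, [1, 0, 2, 1, 3, 2, 0]), ([5, 4, 3, 2, 1, 0], false, [1, 0, 2, 3, 2, 0])]

/-- the representative of a class -/
def repU : Bool → List ℕ
  | true => [0]
  | false => [2]

theorem certOK : certData.all (fun c => (evW c.2.2 && (below c.1 11 && evW (uW c.1))) &&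
    sameU c.1 c.2.2 [] (c.2.2 ++ uW (repU c.2.1))) = true := by
  decide +kernel

theorem basOK : bas32.all (fun b => (evW (uW b) && below b 11) &&
    (sameS (b ++ b) [] && bas32.all fun b' => sameS (b ++ b') (b' ++ b))) = true := by
  decide +kernel

/-- the word of the second involution in the dihedral group of order 26 -/
def wordY : List (Fin 5) := [0, 3, 2, 3, 0, 2, 3, 2, 3, 2, 3, 3]

/-- generators not outside, with the conjugate of the central involution commuting with it -/
theorem genOK : allBelow (fun i => evW (uW [i]) && sameS [0, i] [i, 0]) 11 = true := by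
  decide +kernel

theorem commOK : ([[0], [1], [2], [3]] : List (List (Fin 5))).all (fun g =>
    sameW (g ++ uW [0] ++ g.reverse ++ uW [0]) (uW [0] ++ g ++ uW [0] ++ g.reverse) &&
      (sameW (g ++ g.reverse) [] && evW g)) = true := by
  decide +kernel

theorem thirteenOK : evW wordY = true ∧
    sameW (wordY ++ wordY.reverse) [] = true ∧
    sameW (List.replicate 13 (uW [2] ++ wordY ++ uW [2] ++ wordY.reverse)).flatten [] = true ∧
    sameW (uW [2] ++ wordY ++ uW [2] ++ wordY.reverse) [] = false := by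
  decide +kernel

end Cfsg.Agent.Chev.Tits
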