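import Cfsg.Agent.Lib.TitsTrans.Data
import Cfsg.Agent.Lib.MinIndex.Perm
import Mathlib.GroupTheory.NoncommCoprod

/-! Elementary abelian subgroups of the Tits group and fixed point counts. -/

set_option autoImplicit false
set_option maxRecDepth 100000

namespace Cfsg.Agent.Chev.Tits

open Cfsg.Lie Tab MulAction

/-- an element from a product of basis elements -/
@[irreducible] noncomputable def tU (u : List ℕ) : TT := tW (uW u)

theorem evW_append {a b : List (Fin 5)} (ha : evW a = true) (hb : evW b = true) : evW (a ++ b) = true := by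
  simp only [evW, nat_beq, List.countP_append] at ha hb ⊢
  omega

theorem tW_append {a b : List (Fin 5)} (ha : evW a = true) (hb : evW b = true) :
    tW (a ++ b) = tW a * tW b := by
  refine Subtype.ext ?_
  rw [tW_val (evW_append ha hb), Subgroup.coe_mul, tW_val ha, tW_val hb, valW_append]

theorem tW_nil : tW [] = 1 := Subtype.ext (by rw [tW_val (by rfl)]; simp [valW])

theorem uW_append (a b : List ℕ) : uW (a ++ b) = uW a ++ uW b := by simp [uW]

/-- a homomorphism from the group of order two -/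
def two {G : Type*} [Group G] (a : G) (ha : a * a = 1) : Multiplicative (ZMod 2) →* G where
  toFun v := if v = 1 then 1 else a
  map_one' := if_pos rfl
  map_mul' v w := by
    have hv : ∀ v : Multiplicative (ZMod 2), v = 1 ∨ v = Multiplicative.ofAdd 1 := by decide
    rcases hv v with rfl | rfl <;> rcases hv w with rfl | rfl
    · simp
    · simp
    · simp
    · rw [if_pos (by decide), if_neg (by decide), ha]

theorem two_cases {G : Type*} [Group G] (a : G) (ha : a * a = 1) (v : Multiplicative (ZMod 2)) :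
    two a ha v = 1 ∨ two a ha v = a := by
  show (if v = 1 then 1 else a) = 1 ∨ (if v = 1 then 1 else a) = a
  split_ifs
  · exact Or.inl rfl
  · exact Or.inr rfl

theorem commute_two {G : Type*} [Group G] {a b : G} (ha : a * a = 1) (h : Commute b a)
    (v : Multiplicative (ZMod 2)) : Commute b (two a ha v) := by
  rcases two_cases a ha v with e | e <;> rw [e]
  · exact Commute.one_right _
  · exact h

theorem two_ofAdd {G : Type*} [Group G] (a : G) (ha : a * a = 1) :
    two a ha (Multiplicative.ofAdd 1) = a := by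
  show (if (Multiplicative.ofAdd (1 : ZMod 2)) = 1 then 1 else a) = a
  rw [if_neg (by decide)]

/-- the source group -/
abbrev C2 : Type := Multiplicative (ZMod 2)

theorem sum_C2 {M : Type*} [AddCommMonoid M] (h : C2 → M) :
    ∑ v, h v = h 1 + h (Multiplicative.ofAdd 1) := by
  rw [show (Finset.univ : Finset C2) = {1, Multiplicative.ofAdd 1} from rfl, Finset.sum_insert (by decide),
    Finset.sum_singleton]

/-- the counting formula for an elementary abelian group of order 8 -/
theorem dvd_fix3 {G Ω : Type*} [Group G] [MulAction G Ω] [Finite Ω] (a b c : G)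
    (h2 : ∀ x ∈ [a, b, c], x * x = 1) (hc : ∀ x ∈ [a, b, c], ∀ y ∈ [a, b, c], Commute x y) :
    8 ∣ ∑ i : Bool, ∑ j : Bool, ∑ k : Bool,
      Nat.card (fixedBy Ω ((bif i then a else 1) * (bif j then b else 1) * (bif k then c else 1))) := by
  have cc : ∀ x ∈ [a, b, c], ∀ y (hy : y ∈ [a, b, c]) v, Commute x (two y (h2 y hy) v) :=
    fun x hx y hy v => commute_two _ (hc x hx y hy) v
  let f : (C2 × C2) × C2 →* G :=
    ((two a (h2 a (by simp))).noncommCoprod (two b (h2 b (by simp)))
      fun v w => commute_two _ (cc b (by simp) a (by simp) v).symm w).noncommCoprod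
      (two c (h2 c (by simp))) fun v w => commute_two _ (by
        rw [MonoidHom.noncommCoprod_apply]
        exact ((cc c (by simp) a (by simp) v.1).mul_right (cc c (by simp) b (by simp) v.2)).symm) w
  let _ : MulAction ((C2 × C2) × C2) Ω := MulAction.compHom _ f
  have h := MinIndex.dvd_sum_fixed ((C2 × C2) × C2) Ω
  have hv : ∀ v : (C2 × C2) × C2, Nat.card (fixedBy Ω v) = Nat.card (fixedBy Ω (f v)) := fun v => rfl
  simp only [hv, Fintype.sum_prod_type, sum_C2, f, MonoidHom.noncommCoprod_apply, map_one, two_ofAdd,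
    Fintype.card_prod, Fintype.card_multiplicative, ZMod.card] at h
  simp only [Fintype.sum_bool, cond_true, cond_false]
  omega

/-- the counting formula for an elementary abelian group of order 32 -/
theorem dvd_fix5 {G Ω : Type*} [Group G] [MulAction G Ω] [Finite Ω] (a b c d e : G)
    (h2 : ∀ x ∈ [a, b, c, d, e], x * x = 1)
    (hc : ∀ x ∈ [a, b, c, d, e], ∀ y ∈ [a, b, c, d, e], Commute x y) :
    32 ∣ ∑ i : Bool, ∑ j : Bool, ∑ k : Bool, ∑ l : Bool, ∑ m : Bool,
      Nat.card (fixedBy Ω ((bif i then a else 1) * (bif j then b else 1) * (bif k then c else 1) *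
        (bif l then d else 1) * (bif m then e else 1))) := by
  have cc : ∀ x ∈ [a, b, c, d, e], ∀ y (hy : y ∈ [a, b, c, d, e]) v, Commute x (two y (h2 y hy) v) :=
    fun x hx y hy v => commute_two _ (hc x hx y hy) v
  let f2 : C2 × C2 →* G := (two a (h2 a (by simp))).noncommCoprod (two b (h2 b (by simp)))
      fun v w => commute_two _ (cc b (by simp) a (by simp) v).symm w
  have c2 : ∀ x ∈ [a, b, c, d, e], ∀ v, Commute x (f2 v) := fun x hx v =>
    (cc x hx a (by simp) v.1).mul_right (cc x hx b (by simp) v.2)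
  let f3 : (C2 × C2) × C2 →* G := f2.noncommCoprod (two c (h2 c (by simp)))
      fun v w => commute_two _ (c2 c (by simp) v).symm w
  have c3 : ∀ x ∈ [a, b, c, d, e], ∀ v, Commute x (f3 v) := fun x hx v =>
    (c2 x hx v.1).mul_right (cc x hx c (by simp) v.2)
  let f4 : ((C2 × C2) × C2) × C2 →* G := f3.noncommCoprod (two d (h2 d (by simp)))
      fun v w => commute_two _ (c3 d (by simp) v).symm w
  have c4 : ∀ x ∈ [a, b, c, d, e], ∀ v, Commute x (f4 v) := fun x hx v =>
    (c3 x hx v.1).mul_right (cc x hx d (by simp) v.2)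
  let f : (((C2 × C2) × C2) × C2) × C2 →* G := f4.noncommCoprod (two e (h2 e (by simp)))
      fun v w => commute_two _ (c4 e (by simp) v).symm w
  let _ : MulAction ((((C2 × C2) × C2) × C2) × C2) Ω := MulAction.compHom _ f
  have h := MinIndex.dvd_sum_fixed ((((C2 × C2) × C2) × C2) × C2) Ω
  have hv : ∀ v : (((C2 × C2) × C2) × C2) × C2,
      Nat.card (fixedBy Ω v) = Nat.card (fixedBy Ω (f v)) := fun v => rfl
  simp only [hv, Fintype.sum_prod_type, sum_C2, f, f4, f3, f2, MonoidHom.noncommCoprod_apply, map_one,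
    two_ofAdd, Fintype.card_prod, Fintype.card_multiplicative, ZMod.card] at h
  simp only [Fintype.sum_bool, cond_true, cond_false]
  omega

theorem bas_facts {b : List ℕ} (hb : b ∈ bas32) : evW (uW b) = true ∧ (∀ i ∈ b, i < 11) ∧
    tU b * tU b = 1 ∧ ∀ b' ∈ bas32, Commute (tU b) (tU b') := by
  have hall := basOK
  simp only [List.all_eq_true, Bool.and_eq_true, below, nat_blt] at hall
  obtain ⟨⟨he, hl⟩, hs, hc⟩ := hall b hb
  have h12 : ∀ i ∈ b, i < 12 := fun i hi => (hl i hi).trans (by norm_num)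
  refine ⟨he, hl, Subtype.ext ?_, fun b' hb' => Subtype.ext ?_⟩
  · rw [Subgroup.coe_mul, tU, tW_val he, valW_uW, ← sel_append]
    exact sel_eq (fun i hi => (List.mem_append.1 hi).elim (h12 i) (h12 i)) (by simp) hs
  · obtain ⟨⟨he', hl'⟩, -⟩ := hall b' hb'
    have h12' : ∀ i ∈ b', i < 12 := fun i hi => (hl' i hi).trans (by norm_num)
    rw [Subgroup.coe_mul, Subgroup.coe_mul, tU, tU, tW_val he, tW_val he', valW_uW, valW_uW, ← sel_append,
      ← sel_append]
    exact sel_eq (fun i hi => (List.mem_append.1 hi).elim (h12 i) (h12' i))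
      (fun i hi => (List.mem_append.1 hi).elim (h12' i) (h12 i)) (hc b' hb')

theorem tU_append {a b : List ℕ} (ha : evW (uW a) = true) (hb : evW (uW b) = true) :
    tU (a ++ b) = tU a * tU b := by rw [tU, tU, tU, uW_append, tW_append ha hb]

theorem cert_conj {c : List ℕ × Bool × List (Fin 5)} (hc : c ∈ certData) :
    IsConj (tU (repU c.2.1)) (tU c.1) := by
  have hall := certOK
  simp only [List.all_eq_true, Bool.and_eq_true, below, nat_blt] at hall
  obtain ⟨⟨he, hl, hu⟩, h⟩ := hall c hc
  have hr : evW (uW (repU c.2.1)) = true := by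
    have : ∀ k : Bool, evW (uW (repU k)) = true := by decide +kernel
    exact this _
  have e : valW (uW c.1 ++ c.2.2) = valW (c.2.2 ++ uW (repU c.2.1)) := by
    have := sameU_eq (fun i hi => (hl i hi).trans (by norm_num)) (by simp) h
    simpa [uW] using this
  refine isConj_iff.2 ⟨tW c.2.2, ?_⟩
  rw [mul_inv_eq_iff_eq_mul, tU, tU, ← tW_append he hr, ← tW_append hu he]
  exact Subtype.ext (by rw [tW_val (evW_append he hr), tW_val (evW_append hu he), e])

theorem count32 {Ω : Type*} [MulAction TT Ω] [Finite Ω] :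
    32 ∣ Nat.card Ω + 3 * Nat.card (fixedBy Ω (tU [0])) + 28 * Nat.card (fixedBy Ω (tU [2])) ∧
    8 ∣ Nat.card Ω + 7 * Nat.card (fixedBy Ω (tU [2])) := by
  classical
  have hf : ∀ c ∈ certData, Nat.card (fixedBy Ω (tU c.1)) =
      bif c.2.1 then Nat.card (fixedBy Ω (tU [0])) else Nat.card (fixedBy Ω (tU [2])) := by
    intro c hc
    rw [← MinIndex.fixed_eq_of_isConj (cert_conj hc)]
    rcases c with ⟨u, k, w⟩
    cases k <;> rfl
  obtain ⟨F, hF⟩ : ∃ F, F = Nat.card (fixedBy Ω (tU [0])) := ⟨_, rfl⟩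
  obtain ⟨G, hG⟩ : ∃ G, G = Nat.card (fixedBy Ω (tU [2])) := ⟨_, rfl⟩
  obtain ⟨D, hD⟩ : ∃ D, D = Nat.card Ω := ⟨_, rfl⟩
  simp only [← hF, ← hG] at hf ⊢
  simp only [certData, List.forall_mem_cons, List.not_mem_nil, false_imp_iff, implies_true, and_true, cond_true, cond_false] at hf
  obtain ⟨h0, h1, h10, h2, h20, h21, h210, h3, h30, h31, h310, h32, h320, h321, h3210, h54, h540, h541,
    h5410, h542, h5420, h5421, h54210, h543, h5430, h5431, h54310, h5432, h54320, h54321, h543210⟩ := hf
  have hone : Nat.card (fixedBy Ω (1 : TT)) = Nat.card Ω :=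
    Nat.card_congr (Equiv.subtypeUnivEquiv fun x => one_smul _ x)
  rw [← hD] at hone ⊢
  have hev : ∀ u : List ℕ, u ∈ [[5, 4], [3], [2], [1], [0], [5, 4, 3], [5, 4, 2], [5, 4, 3, 2], [3, 2],
      [5, 4, 1], [3, 1], [2, 1], [5, 4, 3, 1], [5, 4, 2, 1], [3, 2, 1], [5, 4, 3, 2, 1]] →
      evW (uW u) = true := by decide +kernel
  simp only [List.forall_mem_cons, List.not_mem_nil, false_imp_iff, implies_true, and_true] at hev
  obtain ⟨e54, e3, e2, e1, e0, e543, e542, e5432, e32, e541, e31, e21, e5431, e5421, e321, e54321⟩ := hev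
  have p543 : tU [5, 4] * tU [3] = tU [5, 4, 3] := (tU_append e54 e3).symm
  have p542 : tU [5, 4] * tU [2] = tU [5, 4, 2] := (tU_append e54 e2).symm
  have p5432 : tU [5, 4, 3] * tU [2] = tU [5, 4, 3, 2] := (tU_append e543 e2).symm
  have p32 : tU [3] * tU [2] = tU [3, 2] := (tU_append e3 e2).symm
  have p541 : tU [5, 4] * tU [1] = tU [5, 4, 1] := (tU_append e54 e1).symm
  have p31 : tU [3] * tU [1] = tU [3, 1] := (tU_append e3 e1).symm
  have p21 : tU [2] * tU [1] = tU [2, 1] := (tU_append e2 e1).symm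
  have p5431 : tU [5, 4, 3] * tU [1] = tU [5, 4, 3, 1] := (tU_append e543 e1).symm
  have p5421 : tU [5, 4, 2] * tU [1] = tU [5, 4, 2, 1] := (tU_append e542 e1).symm
  have p321 : tU [3, 2] * tU [1] = tU [3, 2, 1] := (tU_append e32 e1).symm
  have p54321 : tU [5, 4, 3, 2] * tU [1] = tU [5, 4, 3, 2, 1] := (tU_append e5432 e1).symm
  have hmem5 : ∀ x ∈ [tU [5, 4], tU [3], tU [2], tU [1], tU [0]], ∃ b ∈ bas32, x = tU b := by
    intro x hx
    simp only [List.mem_cons, List.not_mem_nil, or_false] at hx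
    rcases hx with rfl | rfl | rfl | rfl | rfl
    · exact ⟨[5, 4], List.mem_cons_self, rfl⟩
    · exact ⟨[3], List.mem_cons_of_mem _ List.mem_cons_self, rfl⟩
    · exact ⟨[2], List.mem_cons_of_mem _ (List.mem_cons_of_mem _ List.mem_cons_self), rfl⟩
    · exact ⟨[1], List.mem_cons_of_mem _ (List.mem_cons_of_mem _ (List.mem_cons_of_mem _ List.mem_cons_self)), rfl⟩
    · exact ⟨[0], List.mem_cons_of_mem _ (List.mem_cons_of_mem _ (List.mem_cons_of_mem _
        (List.mem_cons_of_mem _ List.mem_cons_self))), rfl⟩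
  have hsub : ∀ x ∈ [tU [5, 4], tU [3], tU [2]], x ∈ [tU [5, 4], tU [3], tU [2], tU [1], tU [0]] := by
    intro x hx
    simp only [List.mem_cons, List.not_mem_nil, or_false] at hx ⊢
    rcases hx with h | h | h
    · exact Or.inl h
    · exact Or.inr (Or.inl h)
    · exact Or.inr (Or.inr (Or.inl h))
  have hinv : ∀ x ∈ [tU [5, 4], tU [3], tU [2], tU [1], tU [0]], x * x = 1 := fun x hx => by
    obtain ⟨b, hb, rfl⟩ := hmem5 x hx
    exact (bas_facts hb).2.2.1
  have hc : ∀ x ∈ [tU [5, 4], tU [3], tU [2], tU [1], tU [0]],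
      ∀ y ∈ [tU [5, 4], tU [3], tU [2], tU [1], tU [0]], Commute x y := fun x hx y hy => by
    obtain ⟨b, hb, rfl⟩ := hmem5 x hx
    obtain ⟨b', hb', rfl⟩ := hmem5 y hy
    exact (bas_facts hb).2.2.2 b' hb'
  constructor
  · have h := dvd_fix5 (Ω := Ω) (tU [5, 4]) (tU [3]) (tU [2]) (tU [1]) (tU [0]) hinv hc
    simp only [Fintype.sum_bool, cond_true, cond_false,
      one_mul, mul_one, p543, p542, p5432, p32, p541, p31, p21, p5431, p5421, p321, p54321,
      ← tU_append e54 e0, ← tU_append e3 e0, ← tU_append e2 e0, ← tU_append e1 e0, ← tU_append e543 e0,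
      ← tU_append e542 e0, ← tU_append e5432 e0, ← tU_append e32 e0, ← tU_append e541 e0, ← tU_append e31 e0,
      ← tU_append e21 e0, ← tU_append e5431 e0, ← tU_append e5421 e0, ← tU_append e321 e0,
      ← tU_append e54321 e0, List.cons_append, List.nil_append, hone,
      h0, h1, h10, h2, h20, h21, h210, h3, h30, h31, h310, h32, h320, h321, h3210, h54, h540, h541,
      h5410, h542, h5420, h5421, h54210, h543, h5430, h5431, h54310, h5432, h54320, h54321, h543210] at h
    clear * - h
    omega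
  · have h := dvd_fix3 (Ω := Ω) (tU [5, 4]) (tU [3]) (tU [2]) (fun x hx => hinv x (hsub x hx))
      (fun x hx y hy => hc x (hsub x hx) y (hsub y hy))
    simp only [Fintype.sum_bool, cond_true, cond_false,
      one_mul, mul_one, p543, p542, p5432, p32, hone, h2, h3, h32, h54, h542, h543, h5432] at h
    clear * - h
    omega

end Cfsg.Agent.Chev.Tits
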