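import Mathlib.GroupTheory.GroupAction.MultipleTransitivity
import Mathlib.GroupTheory.PGroup
import Mathlib.Data.Fintype.Perm
import Mathlib.GroupTheory.GroupAction.ConjAct
import Mathlib.Data.Fintype.CardEmbedding
import Mathlib.RingTheory.Int.Basic
import Mathlib.Tactic.Linarith

/-! Elementary facts about 2-transitive actions. -/

set_option autoImplicit false

namespace Cfsg.Agent.TitsTrans

open MulAction

variable {G Ω : Type*} [Group G] [MulAction G Ω]

theorem card_emb [Finite Ω] : Nat.card (Fin 2 ↪ Ω) = Nat.card Ω * (Nat.card Ω - 1) := by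
  haveI := Fintype.ofFinite Ω
  rw [Nat.card_eq_fintype_card, Fintype.card_embedding_eq, Fintype.card_fin, Nat.card_eq_fintype_card,
    Nat.descFactorial_succ, Nat.descFactorial_one, mul_comm]

theorem exists_pair {x y : Ω} (h : x ≠ y) : ∃ e : Fin 2 ↪ Ω, e 0 = x ∧ e 1 = y := by
  refine ⟨⟨![x, y], fun i j hij => ?_⟩, rfl, rfl⟩
  fin_cases i <;> fin_cases j <;> simp_all [eq_comm]

variable (h2 : IsMultiplyPretransitive G Ω 2)
include h2

theorem emb_dvd [Finite Ω] [Nontrivial Ω] : Nat.card Ω * (Nat.card Ω - 1) ∣ Nat.card G := by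
  haveI : IsPretransitive G (Fin 2 ↪ Ω) := h2
  obtain ⟨x, y, hxy⟩ := exists_pair_ne Ω
  obtain ⟨e, -, -⟩ := exists_pair hxy
  rw [← card_emb, ← index_stabilizer_of_transitive G e]
  exact Subgroup.index_dvd_card _

theorem exists_smul {x y : Ω} (h : x ≠ y) : ∃ g : G, g • x = y := by
  obtain ⟨e, he0, he1⟩ := exists_pair h
  obtain ⟨f, hf0, -⟩ := exists_pair h.symm
  haveI : IsPretransitive G (Fin 2 ↪ Ω) := h2
  obtain ⟨g, hg⟩ := MulAction.exists_smul_eq G e f
  refine ⟨g, ?_⟩
  rw [← he0, ← hf0, ← hg]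
  rfl

/-- an element of prime order not dividing a two-point stabiliser fixes at most one point -/
theorem fix_unique [Finite Ω] [Finite G] {g : G} {p : ℕ} (hg : orderOf g = p)
    (hp : ¬ Nat.card Ω * (Nat.card Ω - 1) * p ∣ Nat.card G) {u v : Ω} (hu : g • u = u) (hv : g • v = v) :
    u = v := by
  by_contra h
  obtain ⟨e, he0, he1⟩ := exists_pair h
  haveI : IsPretransitive G (Fin 2 ↪ Ω) := h2
  have hm : g ∈ stabilizer G e := by
    refine mem_stabilizer_iff.2 (Function.Embedding.ext fun i => ?_)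
    show g • e i = e i
    fin_cases i
    · show g • e 0 = e 0
      rw [he0, hu]
    · show g • e 1 = e 1
      rw [he1, hv]
  have h1 := Subgroup.card_mul_index (stabilizer G e)
  rw [index_stabilizer_of_transitive, card_emb] at h1
  have h3 := Subgroup.orderOf_dvd_natCard _ hm
  rw [hg] at h3
  obtain ⟨c, hc⟩ := h3
  exact hp ⟨c, by rw [← h1, hc]; ring⟩

/-- counting the pairs moved by the conjugates of an element -/
theorem class_moved [Finite Ω] [Finite G] (z : G) :
    Nat.card Ω * (Nat.card Ω - 1) ∣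
      Nat.card {c : G // IsConj z c} * (Nat.card Ω - Nat.card (fixedBy Ω z)) := by
  classical
  haveI : IsPretransitive G (Fin 2 ↪ Ω) := h2
  haveI := Fintype.ofFinite Ω
  haveI := Fintype.ofFinite G
  by_cases hne : Nonempty (Fin 2 ↪ Ω)
  · obtain ⟨e₀⟩ := hne
    let A : Type _ := Σ c : {c : G // IsConj z c}, {x : Ω // c.1 • x ≠ x}
    let B : Type _ := Σ e : Fin 2 ↪ Ω, {c : {c : G // IsConj z c} // c.1 • e 0 = e 1}
    have hf : ∀ c : {c : G // IsConj z c}, Nat.card {x : Ω // c.1 • x ≠ x} =
        Nat.card Ω - Nat.card (fixedBy Ω z) := by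
      rintro ⟨c, hc⟩
      obtain ⟨g, rfl⟩ := isConj_iff.1 hc
      have e : Nat.card (fixedBy Ω z) = Nat.card {x : Ω // (g * z * g⁻¹) • x = x} :=
        Nat.card_congr ((MulAction.toPerm g).subtypeEquiv fun x => by
          show z • x = x ↔ (g * z * g⁻¹) • g • x = g • x
          rw [smul_smul, inv_mul_cancel_right, ← smul_smul, smul_left_cancel_iff])
      rw [e, Nat.card_eq_fintype_card, Nat.card_eq_fintype_card, Nat.card_eq_fintype_card]
      exact Fintype.card_subtype_compl _
    have hA : Nat.card A = Nat.card {c : G // IsConj z c} * (Nat.card Ω - Nat.card (fixedBy Ω z)) := by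
      rw [Nat.card_sigma, Finset.sum_congr rfl fun c _ => hf c, Finset.sum_const, Finset.card_univ,
        smul_eq_mul, ← Nat.card_eq_fintype_card]
    let φ : A ≃ B :=
      { toFun := fun a => ⟨⟨![a.2.1, a.1.1 • a.2.1], by
          intro i j hij
          have := a.2.2
          fin_cases i <;> fin_cases j <;> simp_all [eq_comm]⟩, a.1, rfl⟩
        invFun := fun b => ⟨b.2.1, b.1 0, fun h => by
          have := b.1.injective (h.symm.trans b.2.2)
          exact absurd this (by decide)⟩
        left_inv := fun a => rfl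
        right_inv := fun b => by
          obtain ⟨e, c, hc⟩ := b
          refine Sigma.subtype_ext (Function.Embedding.ext fun i => ?_) rfl
          fin_cases i
          · rfl
          · exact hc }
    have hB : ∀ e : Fin 2 ↪ Ω, Nat.card {c : {c : G // IsConj z c} // c.1 • e 0 = e 1} =
        Nat.card {c : {c : G // IsConj z c} // c.1 • e₀ 0 = e₀ 1} := by
      intro e
      obtain ⟨g, rfl⟩ := MulAction.exists_smul_eq G e₀ e
      refine (Nat.card_congr (Equiv.subtypeEquiv ((MulAut.conj g).toEquiv.subtypeEquiv fun c => ?_) fun c => ?_)).symm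
      · show IsConj z c ↔ IsConj z (g * c * g⁻¹)
        have : IsConj c (g * c * g⁻¹) := isConj_iff.2 ⟨g, rfl⟩
        exact ⟨fun h => h.trans this, fun h => h.trans this.symm⟩
      · show c.1 • e₀ 0 = e₀ 1 ↔ (g * c.1 * g⁻¹) • (g • e₀ 0) = g • e₀ 1
        rw [smul_smul, inv_mul_cancel_right, ← smul_smul, smul_left_cancel_iff]
    refine ⟨Nat.card {c : {c : G // IsConj z c} // c.1 • e₀ 0 = e₀ 1}, ?_⟩
    rw [← hA, Nat.card_congr φ, Nat.card_sigma, Finset.sum_congr rfl fun e _ => hB e, Finset.sum_const,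
      Finset.card_univ, smul_eq_mul, ← Nat.card_eq_fintype_card, card_emb]
  · rw [not_nonempty_iff] at hne
    haveI := hne
    have h0 := card_emb (Ω := Ω)
    rw [Nat.card_of_isEmpty] at h0
    rw [← h0, zero_dvd_iff]
    rcases Nat.eq_zero_or_pos (Nat.card Ω - Nat.card (fixedBy Ω z)) with h | h
    · rw [h, mul_zero]
    · exfalso
      obtain ⟨x, hx⟩ : ∃ x : Ω, z • x ≠ x := by
        by_contra hall
        push Not at hall
        have : Nat.card (fixedBy Ω z) = Nat.card Ω := Nat.card_congr (Equiv.subtypeUnivEquiv hall)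
        omega
      obtain ⟨e, -⟩ := exists_pair hx
      exact hne.false e

omit h2 in
/-- the size of a class against a subgroup centralising the element -/
theorem class_dvd [Finite G] (z : G) (P : Subgroup G) (hP : ∀ g ∈ P, g * z = z * g) :
    Nat.card P * Nat.card {c : G // IsConj z c} ∣ Nat.card G := by
  have e : Nat.card {c : G // IsConj z c} = (stabilizer (ConjAct G) z).index := by
    rw [index_stabilizer, ← Nat.card_coe_set_eq]
    refine Nat.card_congr (Equiv.subtypeEquivRight fun c => ?_)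
    rw [isConj_comm, ← ConjAct.mem_orbit_conjAct]
  let f : P →* stabilizer (ConjAct G) z :=
    (ConjAct.toConjAct.toMonoidHom.comp P.subtype).codRestrict _ fun g => by
      refine mem_stabilizer_iff.2 ?_
      show ConjAct.toConjAct (g : G) • z = z
      rw [ConjAct.toConjAct_smul, hP g g.2, mul_inv_cancel_right]
  have hf : Function.Injective f := fun a b h => by
    have h' : ConjAct.toConjAct (a : G) = ConjAct.toConjAct (b : G) :=
      congrArg (fun t : stabilizer (ConjAct G) z => (t : ConjAct G)) h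
    exact Subtype.ext (ConjAct.toConjAct.injective h')
  obtain ⟨c, hc⟩ := Subgroup.card_dvd_of_injective f hf
  refine ⟨c, ?_⟩
  have h1 := Subgroup.card_mul_index (stabilizer (ConjAct G) z)
  rw [hc] at h1
  rw [e, show Nat.card G = Nat.card (ConjAct G) from Nat.card_congr ConjAct.toConjAct.toEquiv, ← h1]
  ring

omit h2 in
/-- an element inverted by an involution and fixing one point bounds the fixed points of the involution -/
theorem invert_bound [Finite Ω] [Finite G] {x y : G} (hx : orderOf x = 13) (hxy : y * x = x⁻¹ * y)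
    {x₀ : Ω} (h1 : ∀ u : Ω, x • u = u ↔ u = x₀) :
    13 * (Nat.card (fixedBy Ω y) - 1) ≤ Nat.card Ω - 1 ∧ 1 ≤ Nat.card (fixedBy Ω y) := by
  classical
  haveI := Fintype.ofFinite Ω
  have hx0 : x • x₀ = x₀ := (h1 x₀).2 rfl
  have hy0 : y • x₀ = x₀ := by
    refine (h1 _).1 ?_
    have : x * y = y * x⁻¹ := by
      calc x * y = x * (y * x) * x⁻¹ := by group
        _ = x * (x⁻¹ * y) * x⁻¹ := by rw [hxy]
        _ = y * x⁻¹ := by group
    rw [smul_smul, this, ← smul_smul, inv_smul_eq_iff.2 hx0.symm]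
  have hk : ∀ k : ℤ, y * x ^ k = x ^ (-k) * y := by
    intro k
    have h : SemiconjBy y x x⁻¹ := hxy
    have := h.zpow_right k
    rw [inv_zpow'] at this
    exact this
  let f : {a : Ω // a ∈ fixedBy Ω y ∧ a ≠ x₀} × Fin 13 → {b : Ω // b ≠ x₀} := fun p =>
    ⟨x ^ (p.2.1 : ℕ) • p.1.1, fun e => p.1.2.2 (by
      have hs : x ^ (p.2.1 : ℕ) ∈ stabilizer G x₀ := pow_mem (mem_stabilizer_iff.2 hx0) _
      exact smul_left_cancel _ (e.trans (mem_stabilizer_iff.1 hs).symm))⟩
  have hf : Function.Injective f := by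
    rintro ⟨⟨a, ha, hane⟩, i⟩ ⟨⟨b, hb, hbne⟩, j⟩ h
    have h' : x ^ (i.1 : ℕ) • a = x ^ (j.1 : ℕ) • b := congrArg Subtype.val h
    have hab : x ^ ((i.1 : ℤ) - j.1) • a = b := by
      rw [zpow_sub, (Commute.refl x).zpow_zpow _ _ |>.inv_right.eq, mul_smul, zpow_natCast, zpow_natCast, h',
        inv_smul_smul]
    set k : ℤ := (i.1 : ℤ) - j.1 with hk'
    have h2k : x ^ (2 * k) • a = a := by
      have e1 : x ^ (-k) • a = b := by
        have e := congrArg (fun u => y • u) hab
        simp only [smul_smul, hk] at e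
        rw [mul_smul, show y • a = a from ha, show y • b = b from hb] at e
        exact e
      rw [two_mul, zpow_add, mul_smul, hab, ← e1, smul_smul, ← zpow_add, add_neg_cancel, zpow_zero, one_smul]
    have hdiv : (13 : ℤ) ∣ 2 * k := by
      by_contra hn
      apply hane
      refine (h1 a).1 ?_
      have hcop : IsCoprime (2 * k) (13 : ℤ) := by
        refine ((Int.prime_iff_natAbs_prime.2 (show Nat.Prime (13 : ℤ).natAbs by decide)).coprime_iff_not_dvd.2 hn).symm
      obtain ⟨r, s, hrs⟩ := hcop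
      have hxs : x = (x ^ (2 * k)) ^ r := by
        rw [← zpow_mul, show (2 * k) * r = 1 - (13 : ℤ) * s by linarith, zpow_sub, zpow_one, zpow_mul,
          show x ^ (13 : ℤ) = 1 by rw [show (13 : ℤ) = ((13 : ℕ) : ℤ) from rfl, zpow_natCast, ← hx,
            pow_orderOf_eq_one], one_zpow, inv_one, mul_one]
      have hm : x ^ (2 * k) ∈ stabilizer G a := mem_stabilizer_iff.2 h2k
      rw [hxs]
      exact mem_stabilizer_iff.1 (zpow_mem hm r)
    have hij : i = j := Fin.ext (by omega)
    subst hij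
    have : a = b := by
      rw [← hab, show k = 0 by omega, zpow_zero, one_smul]
    subst this
    rfl
  have hle := Nat.card_le_card_of_injective f hf
  rw [Nat.card_prod, Nat.card_eq_fintype_card (α := Fin 13), Fintype.card_fin] at hle
  have hA : Nat.card {a : Ω // a ∈ fixedBy Ω y ∧ a ≠ x₀} = Nat.card (fixedBy Ω y) - 1 := by
    have e : {a : Ω | a ∈ fixedBy Ω y ∧ a ≠ x₀} = fixedBy Ω y \ {x₀} := rfl
    show Nat.card ({a : Ω | a ∈ fixedBy Ω y ∧ a ≠ x₀} : Set Ω) = _
    rw [e, Nat.card_coe_set_eq, Nat.card_coe_set_eq, Set.ncard_sdiff_singleton_of_mem (show x₀ ∈ fixedBy Ω y from hy0)]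
  have hB : Nat.card {b : Ω // b ≠ x₀} = Nat.card Ω - 1 := by
    rw [Nat.card_eq_fintype_card, Nat.card_eq_fintype_card, Fintype.card_subtype_compl,
      Fintype.card_subtype_eq]
  rw [hA, hB] at hle
  haveI : Nonempty (fixedBy Ω y) := ⟨⟨x₀, hy0⟩⟩
  exact ⟨by omega, Nat.card_pos⟩

end Cfsg.Agent.TitsTrans
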