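import Cfsg.Agent.Lib.TitsTrans.Elem
import Cfsg.Agent.Lib.TitsTrans.Generic

/-! The Tits group has no faithful 2-transitive action on at least three points. -/

set_option autoImplicit false
set_option maxRecDepth 100000

namespace Cfsg.Agent.Chev.Tits

open Cfsg.Lie Tab MulAction

attribute [local irreducible] tW valW sel

theorem degOK : (allBelow (fun d => Nat.blt d 13 || (!Nat.beq (17971200 % (d * (d - 1))) 0 ||
    ([13, 16, 25, 26, 27, 40, 65] : List ℕ).any (Nat.beq d))) 4241) = true := by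
  decide +kernel

theorem tW_eq {a b : List (Fin 5)} (ha : evW a = true) (hb : evW b = true) (h : valW a = valW b) :
    tW a = tW b := Subtype.ext (by rw [tW_val ha, tW_val hb, h])

theorem valW_ne_one {w : List (Fin 5)} {j : ℕ}
    (h : Nat.blt (fW w (2 ^ j)) (2 ^ 52) = true) (hj : Nat.blt (2 ^ j) (2 ^ 52) = true)
    (hne : Nat.beq (fW w (2 ^ j)) (2 ^ j) = false) : valW w ≠ 1 := by
  intro e
  have hv := act_valW w (2 ^ j)
  rw [e, Subgroup.coe_one, Units.val_one, Matrix.one_mulVec] at hv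
  exact nat_beq_false.1 hne (vecN_inj (nat_blt.1 h) (nat_blt.1 hj) hv.symm)

theorem nonid0 : Nat.blt (fW (uW [0]) (2 ^ 0)) (2 ^ 52) = true ∧
    Nat.blt (2 ^ 0) (2 ^ 52) = true ∧ Nat.beq (fW (uW [0]) (2 ^ 0)) (2 ^ 0) = false := by
  decide +kernel

theorem nonid13 : Nat.blt (fW (uW [2] ++ wordY ++ uW [2] ++ wordY.reverse) (2 ^ 0)) (2 ^ 52) = true ∧
    Nat.blt (2 ^ 0) (2 ^ 52) = true ∧
    Nat.beq (fW (uW [2] ++ wordY ++ uW [2] ++ wordY.reverse) (2 ^ 0)) (2 ^ 0) = false := by
  decide +kernel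

theorem deg65 {Ω : Type*} [Finite Ω] [Nontrivial Ω] [MulAction TT Ω] [Finite TT]
    (h2 : IsMultiplyPretransitive TT Ω 2) (hT : Nat.card TT = 17971200) {F : ℕ}
    (hd : 65 = Nat.card Ω) (hF : F = Nat.card (fixedBy Ω (tU [0]))) (hFlt : F < 65) (hF1 : F % 32 = 1) :
    False := by
  have e0 : evW (uW [0]) = true := by decide +kernel
  have hP11 : Hk 11 ≤ commutator ↥TW := by
    rw [Hk, Subgroup.closure_le]
    rintro _ ⟨i, hi, rfl⟩
    exact (valW_mem (sw i)).2 (nat_beq.1 (allBelow_eq_true.1 evenOK i hi))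
  have hcomm : ∀ g ∈ (Hk 11).subgroupOf (commutator ↥TW), g * tU [0] = tU [0] * g := by
    intro g hg
    have hle : Hk 11 ≤ Subgroup.centralizer {se 0} := by
      rw [Hk, Subgroup.closure_le]
      rintro _ ⟨i, hi, rfl⟩
      rw [SetLike.mem_coe, Subgroup.mem_centralizer_singleton_iff]
      have h := allBelow_eq_true.1 genOK i hi
      simp only [Bool.and_eq_true] at h
      have hl : ∀ j ∈ [0, i], j < 12 := by simp; omega
      have hl' : ∀ j ∈ [i, 0], j < 12 := by simp; omega
      have e := sel_eq hl hl' h.2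
      rw [sel_cons, sel_cons, sel_cons, sel_cons] at e
      have hnil : sel [] = 1 := by rw [sel]; rfl
      rw [hnil, mul_one, mul_one] at e
      exact e.symm
    have hg' := Subgroup.mem_centralizer_singleton_iff.1 (hle (Subgroup.mem_subgroupOf.1 hg))
    refine Subtype.ext ?_
    rw [Subgroup.coe_mul, Subgroup.coe_mul, tU, tW_val e0, valW_uW, sel_cons,
      show sel [] = 1 by rw [sel]; rfl, mul_one]
    exact hg'
  have hN := TitsTrans.class_dvd (tU [0]) _ hcomm
  rw [Nat.card_congr (Subgroup.subgroupOfEquivOfLe hP11).toEquiv, card_forms 11 (by norm_num), hT] at hN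
  have hm := TitsTrans.class_moved h2 (tU [0])
  rw [← hd, ← hF] at hm
  obtain ⟨N, hN'⟩ : ∃ N, N = Nat.card {c : TT // IsConj (tU [0]) c} := ⟨_, rfl⟩
  rw [← hN'] at hm hN
  have hF' : F = 1 := by
    have hodd : Nat.Coprime 64 N := by
      have h1 : N ∣ 8775 := by
        rw [show (17971200 : ℕ) = 2 ^ 11 * 8775 by norm_num] at hN
        exact Nat.dvd_of_mul_dvd_mul_left (by norm_num) hN
      exact Nat.Coprime.coprime_dvd_right h1 (by decide)
    have h64 : 64 ∣ N * (65 - F) := (show (64 : ℕ) ∣ 65 * (65 - 1) by norm_num).trans hm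
    have := (hodd.dvd_of_dvd_mul_left h64)
    omega
  rw [hF] at hF'
  obtain ⟨hsub, ⟨⟨x₀, hx₀⟩⟩⟩ := Nat.card_eq_one_iff_unique.1 hF'
  have huniq : ∀ u : Ω, tU [0] • u = u → u = x₀ := fun u hu =>
    congrArg Subtype.val (hsub.elim ⟨u, hu⟩ ⟨x₀, hx₀⟩)
  have hg0 : ∀ g : List (Fin 5), g ∈ ([[0], [1], [2], [3]] : List (List (Fin 5))) →
      evW g = true ∧ tW g • x₀ = x₀ := by
    intro g hg
    have hall := List.all_eq_true.1 commOK g hg
    simp only [Bool.and_eq_true] at hall
    obtain ⟨hc, hinv, he⟩ := hall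
    have her : evW g.reverse = true := by
      rw [evW, List.countP_reverse]; exact he
    have hi : tW g * tW g.reverse = 1 := by
      rw [← tW_append he her, ← tW_nil]
      exact tW_eq (evW_append he her) (by rfl) (valW_eq hinv)
    have ht : tW g * tU [0] * tW g.reverse * tU [0] = tU [0] * tW g * tU [0] * tW g.reverse := by
      rw [tU, ← tW_append he e0, ← tW_append (evW_append he e0) her,
        ← tW_append (evW_append (evW_append he e0) her) e0, ← tW_append e0 he,
        ← tW_append (evW_append e0 he) e0, ← tW_append (evW_append (evW_append e0 he) e0) her]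
      exact tW_eq (evW_append (evW_append (evW_append he e0) her) e0)
        (evW_append (evW_append (evW_append e0 he) e0) her) (valW_eq hc)
    have h1 : tW g • tU [0] • tW g.reverse • x₀ = x₀ := by
      refine huniq _ ?_
      simp only [smul_smul, ← mul_assoc]
      rw [← ht, mul_smul, show tU [0] • x₀ = x₀ from hx₀]
    have h4 : tW g.reverse • x₀ = x₀ := by
      refine huniq _ ?_
      have hi' : tW g.reverse * tW g = 1 := mul_eq_one_comm.1 hi
      calc tU [0] • tW g.reverse • x₀ = (tW g.reverse * tW g) • tU [0] • tW g.reverse • x₀ := by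
            rw [hi', one_smul]
        _ = tW g.reverse • tW g • tU [0] • tW g.reverse • x₀ := mul_smul _ _ _
        _ = tW g.reverse • x₀ := by rw [h1]
    refine ⟨he, ?_⟩
    calc tW g • x₀ = tW g • tW g.reverse • x₀ := by rw [h4]
      _ = x₀ := by rw [smul_smul, hi, one_smul]
  have hle : Rels.KT gen ≤ (stabilizer TT x₀).map (commutator ↥TW).subtype := by
    refine (Subgroup.closure_le _).2 ?_
    rintro x (rfl | rfl | rfl | rfl)
    · exact ⟨tW [0], (hg0 [0] (by simp)).2, by
        show ((tW [0] : TT) : ↥TW) = _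
        rw [tW_val (hg0 [0] (by simp)).1, valW_single]⟩
    · exact ⟨tW [1], (hg0 [1] (by simp)).2, by
        show ((tW [1] : TT) : ↥TW) = _
        rw [tW_val (hg0 [1] (by simp)).1, valW_single]⟩
    · exact ⟨tW [2], (hg0 [2] (by simp)).2, by
        show ((tW [2] : TT) : ↥TW) = _
        rw [tW_val (hg0 [2] (by simp)).1, valW_single]⟩
    · exact ⟨tW [3], (hg0 [3] (by simp)).2, by
        show ((tW [3] : TT) : ↥TW) = _
        rw [tW_val (hg0 [3] (by simp)).1, valW_single]⟩
  rw [← rels.KT_eq] at hle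
  obtain ⟨y, hy⟩ := exists_ne x₀
  obtain ⟨g, hg⟩ := TitsTrans.exists_smul h2 hy.symm
  obtain ⟨g', hg', e⟩ := hle g.2
  have e' : g' = g := Subtype.ext e
  exact hy (by rw [← hg, ← e']; exact hg')

theorem deg40 {Ω : Type*} [Finite Ω] [MulAction TT Ω] [Finite TT]
    (h2 : IsMultiplyPretransitive TT Ω 2) (hT : Nat.card TT = 17971200) {G : ℕ}
    (hd : 40 = Nat.card Ω) (hG : G = Nat.card (fixedBy Ω (tU [2]))) (hG0 : G % 8 = 0) :
    False := by
  have e2 : evW (uW [2]) = true := by decide +kernel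
  obtain ⟨he, hwi, h13w, -⟩ := thirteenOK
  have her : evW wordY.reverse = true := by
    rw [evW, List.countP_reverse]; exact he
  have hx13 : evW (uW [2] ++ wordY ++ uW [2] ++ wordY.reverse) = true :=
    evW_append (evW_append (evW_append e2 he) e2) her
  obtain ⟨x, hxdef⟩ : ∃ x, x = tW (uW [2] ++ wordY ++ uW [2] ++ wordY.reverse) := ⟨_, rfl⟩
  have hpow : ∀ n : ℕ, ((tW (uW [2] ++ wordY ++ uW [2] ++ wordY.reverse) : TT) : ↥TW) ^ n =
      valW (List.replicate n (uW [2] ++ wordY ++ uW [2] ++ wordY.reverse)).flatten := by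
    intro n
    induction n with
    | zero => rw [pow_zero, List.replicate_zero, List.flatten_nil, valW]; rfl
    | succ n ih => rw [pow_succ', ih, List.replicate_succ, List.flatten_cons, valW_append, tW_val hx13]
  have hxne : x ≠ 1 := by
    intro e
    have e' : ((x : TT) : ↥TW) = 1 := by rw [e]; rfl
    rw [hxdef, tW_val hx13] at e'
    exact valW_ne_one nonid13.1 nonid13.2.1 nonid13.2.2 e'
  have hxo : orderOf x = 13 := by
    haveI : Fact (Nat.Prime 13) := ⟨by norm_num⟩
    refine orderOf_eq_prime (Subtype.ext ?_) hxne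
    rw [SubgroupClass.coe_pow, hxdef, hpow, valW_eq h13w, valW]
    rfl
  have hy2 : tU [2] * tU [2] = 1 := (bas_facts (b := [2]) (by decide)).2.2.1
  have hwinv : tW wordY.reverse = (tW wordY)⁻¹ := by
    refine (inv_eq_of_mul_eq_one_right ?_).symm
    rw [← tW_append he her, ← tW_nil]
    exact tW_eq (evW_append he her) (by rfl) (valW_eq hwi)
  have hxe : x = tU [2] * tW wordY * tU [2] * (tW wordY)⁻¹ := by
    rw [hxdef, tW_append (evW_append (evW_append e2 he) e2) her, tW_append (evW_append e2 he) e2,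
      tW_append e2 he, hwinv, tU]
  have hyinv : (tU [2])⁻¹ = tU [2] := inv_eq_of_mul_eq_one_right hy2
  have hxy : tU [2] * x = x⁻¹ * tU [2] := by
    rw [hxe, mul_inv_rev, mul_inv_rev, mul_inv_rev, inv_inv, hyinv]
    simp only [← mul_assoc]
    rw [hy2, one_mul, mul_assoc (_ * _) (tU [2]) (tU [2]), hy2, mul_one]
  have hnd : ¬ Nat.card Ω * (Nat.card Ω - 1) * 13 ∣ Nat.card TT := by
    rw [← hd, hT]; norm_num
  have hmod : Nat.card Ω ≡ Nat.card (fixedPoints (Subgroup.zpowers x) Ω) [MOD 13] := by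
    haveI : Fact (Nat.Prime 13) := ⟨by norm_num⟩
    exact (IsPGroup.of_card (n := 1) (by rw [Nat.card_zpowers, hxo, pow_one])).card_modEq_card_fixedPoints Ω
  have hfx : fixedPoints (Subgroup.zpowers x) Ω = fixedBy Ω x := by
    ext u
    exact ⟨fun h => h ⟨x, Subgroup.mem_zpowers x⟩, fun h g =>
      (Subgroup.zpowers_le.2 (mem_stabilizer_iff.2 h) g.2 : (g : TT) ∈ stabilizer TT u)⟩
  rw [hfx, ← hd] at hmod
  have hsub : Nat.card (fixedBy Ω x) ≤ 1 := by
    haveI : Subsingleton (fixedBy Ω x) :=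
      ⟨fun u v => Subtype.ext (TitsTrans.fix_unique h2 hxo hnd u.2 v.2)⟩
    exact Finite.card_le_one_iff_subsingleton.2 inferInstance
  have hpos : 0 < Nat.card (fixedBy Ω x) := by
    rcases Nat.eq_zero_or_pos (Nat.card (fixedBy Ω x)) with h | h
    · rw [h] at hmod; exact absurd hmod (by decide)
    · exact h
  obtain ⟨⟨x₀, hx₀⟩⟩ := (Nat.card_pos_iff.1 hpos).1
  have h1 : ∀ u : Ω, x • u = u ↔ u = x₀ := fun u =>
    ⟨fun h => TitsTrans.fix_unique h2 hxo hnd h hx₀, fun h => h ▸ hx₀⟩
  obtain ⟨hb, hb'⟩ := TitsTrans.invert_bound hxo hxy h1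
  rw [← hG] at hb hb'
  rw [← hd] at hb
  omega

theorem no_two_transitive {Ω : Type*} [Finite Ω] [MulAction TT Ω] [FaithfulSMul TT Ω]
    (h3 : 3 ≤ Nat.card Ω) (h2 : IsMultiplyPretransitive TT Ω 2) : False := by
  haveI : Nontrivial Ω := Finite.one_lt_card_iff_nontrivial.1 (by omega)
  have hT : Nat.card TT = 17971200 := by rw [show Nat.card TT = _ from card_T]; norm_num
  haveI : Finite TT := Nat.finite_of_card_ne_zero (by rw [hT]; norm_num)
  obtain ⟨d, hd⟩ : ∃ d, d = Nat.card Ω := ⟨_, rfl⟩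
  have hdvd : d * (d - 1) ∣ 17971200 := by rw [hd, ← hT]; exact TitsTrans.emb_dvd h2
  have hle : d ≤ 4240 := by
    have := Nat.le_of_dvd (by norm_num) hdvd
    by_contra hc
    have h' : 4241 * 4240 ≤ d * (d - 1) := Nat.mul_le_mul (by omega) (by omega)
    omega
  have h13 : 13 ≤ d := by
    have hperm : Nat.card TT ∣ Nat.card (Equiv.Perm Ω) :=
      Subgroup.card_dvd_of_injective (MulAction.toPermHom TT Ω) MulAction.toPerm_injective
    rw [Nat.card_perm, hT, ← hd] at hperm
    exact (Nat.Prime.dvd_factorial (by norm_num : Nat.Prime 13)).1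
      ((show 13 ∣ 17971200 by norm_num).trans hperm)
  have hlist : d ∈ ([13, 16, 25, 26, 27, 40, 65] : List ℕ) := by
    have h := allBelow_eq_true.1 degOK d (by omega)
    simp only [Bool.or_eq_true, nat_blt, Bool.not_eq_true', nat_beq_false, List.any_eq_true, nat_beq] at h
    rcases h with h | h | ⟨e, he, rfl⟩
    · omega
    · exact absurd (Nat.mod_eq_zero_of_dvd hdvd) h
    · exact he
  obtain ⟨hc1, hc2⟩ := count32 (Ω := Ω)
  obtain ⟨F, hF⟩ : ∃ F, F = Nat.card (fixedBy Ω (tU [0])) := ⟨_, rfl⟩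
  obtain ⟨G, hG⟩ : ∃ G, G = Nat.card (fixedBy Ω (tU [2])) := ⟨_, rfl⟩
  rw [← hd, ← hF, ← hG] at hc1
  rw [← hd, ← hG] at hc2
  have hGle : G ≤ d := by
    rw [hG, hd]; exact Nat.card_le_card_of_injective _ Subtype.val_injective
  have e0 : evW (uW [0]) = true := by decide +kernel
  have e2 : evW (uW [2]) = true := by decide +kernel
  have hz1 : tU [0] ≠ 1 := by
    intro e
    have e' : ((tU [0] : TT) : ↥TW) = 1 := by rw [e]; rfl
    rw [tU, tW_val e0] at e'
    exact valW_ne_one nonid0.1 nonid0.2.1 nonid0.2.2 e'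
  have hFlt : F < d := by
    rw [hF, hd]
    refine lt_of_le_of_ne (Nat.card_le_card_of_injective _ Subtype.val_injective) fun e => hz1 ?_
    have hall : fixedBy Ω (tU [0]) = Set.univ := by
      refine Set.eq_of_subset_of_ncard_le (Set.subset_univ _) ?_ Set.finite_univ
      rw [Set.ncard_univ, ← Nat.card_coe_set_eq, e]
    exact eq_of_smul_eq_smul (α := Ω) fun x => by
      rw [one_smul]; exact (show x ∈ fixedBy Ω (tU [0]) by rw [hall]; trivial)
  simp only [List.mem_cons, List.not_mem_nil, or_false] at hlist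
  have hd' : (d = 65 ∧ F % 32 = 1) ∨ (d = 40 ∧ G % 8 = 0) := by omega
  rcases hd' with ⟨rfl, hF1⟩ | ⟨rfl, hG0⟩
  · exact deg65 h2 hT hd hF hFlt hF1
  · exact deg40 h2 hT hd hG hG0

end Cfsg.Agent.Chev.Tits
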